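import Groth.Agent.GrpLimLib.Comp
import Groth.Agent.RichLib.LimitDescentFlat
import Groth.Agent.S0591
import Mathlib.AlgebraicGeometry.Morphisms.UniversallyOpen

/-!
# Isomorphisms and fppf coverings over the stages of an affine limit
-/

set_option autoImplicit false
set_option backward.isDefEq.respectTransparency false
set_option linter.style.haveILetI false
set_option maxHeartbeats 1000000

noncomputable section

universe u

open CategoryTheory CategoryTheory.Limits MonoidalCategory CartesianMonoidalCategory AlgebraicGeometry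
open RichLib GrpLimLib

namespace TorsorLimLib

/-- An fppf covering, with a map to `X`. -/
def HasCov {S : Scheme.{u}} (X : Over S) : Prop :=
  ∃ Z : Over S, Nonempty (Z ⟶ X) ∧ Flat Z.hom ∧ Surjective Z.hom ∧ LocallyOfFinitePresentation Z.hom ∧
    QuasiCompact Z.hom ∧ QuasiSeparated Z.hom

theorem hasCov_iff {S : Scheme.{u}} (X : Over S) :
    HasCov X ↔ ∃ (Z : Scheme.{u}) (v : Z ⟶ S) (w : Z ⟶ X.left), w ≫ X.hom = v ∧
      Flat v ∧ Surjective v ∧ LocallyOfFinitePresentation v ∧ QuasiCompact v ∧ QuasiSeparated v :=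
  ⟨fun ⟨Z, ⟨w⟩, h⟩ => ⟨Z.left, Z.hom, w.left, Over.w w, h⟩,
    fun ⟨_, v, w, hw, h⟩ => ⟨Over.mk v, ⟨Over.homMk w hw⟩, h⟩⟩

theorem hasCov_comp {S S' S'' : Scheme.{u}} {b : S'' ⟶ S'} {g : S' ⟶ S} {bg : S'' ⟶ S} (h : b ≫ g = bg)
    {X : Over S} (hX : HasCov (Red.bc g X)) : HasCov (Red.bc bg X) := by
  obtain ⟨Z, ⟨w⟩, h1, h2, h3, h4, h5⟩ := hX
  exact ⟨Red.bc b Z, ⟨(Over.pullback b).map w ≫ (compIso₂ h X).hom⟩, MorphismProperty.pullback_snd _ _ h1,
    MorphismProperty.pullback_snd _ _ h2, MorphismProperty.pullback_snd _ _ h3,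
    MorphismProperty.pullback_snd _ _ h4, MorphismProperty.pullback_snd _ _ h5⟩

theorem isIso_comp' {S S' S'' : Scheme.{u}} {b : S'' ⟶ S'} {g : S' ⟶ S} {bg : S'' ⟶ S} (h : b ≫ g = bg)
    {X Y : Over S} {v : X ⟶ Y} [IsIso ((Over.pullback b).map ((Over.pullback g).map v))] :
    IsIso ((Over.pullback bg).map v) := by
  have e : (Over.pullback bg).map v =
      (compIso₂ h X).inv ≫ (Over.pullback b).map ((Over.pullback g).map v) ≫ (compIso₂ h Y).hom := by
    rw [compIso₂_naturality, Iso.inv_hom_id_assoc]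
  rw [e]
  infer_instance

theorem isIso_comp {S S' S'' : Scheme.{u}} {b : S'' ⟶ S'} {g : S' ⟶ S} {bg : S'' ⟶ S} (h : b ≫ g = bg)
    {X Y : Over S} {v : X ⟶ Y} (hv : IsIso ((Over.pullback g).map v)) : IsIso ((Over.pullback bg).map v) :=
  isIso_comp' h

variable {I : Type u} [SmallCategory I] {D : I ⥤ Scheme.{u}} {c : Cone D} (hc : IsLimit c) [IsCofiltered I]
  [∀ (i i' : I) (f : i ⟶ i'), IsAffineHom (D.map f)] [∀ i, CompactSpace (D.obj i)]
  [∀ i, QuasiSeparatedSpace (D.obj i)] {j : I}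

include hc in
/-- An isomorphism over the limit is an isomorphism at some stage. -/
theorem exists_isIso {X Y : Over (D.obj j)} [QuasiCompact X.hom] [QuasiSeparated X.hom]
    [LocallyOfFinitePresentation X.hom] [QuasiCompact Y.hom] [QuasiSeparated Y.hom]
    [LocallyOfFinitePresentation Y.hom] (s : X ⟶ Y) [IsIso ((Over.pullback (c.π.app j)).map s)] :
    ∃ (i : I) (a : i ⟶ j), IsIso ((Over.pullback (D.map a)).map s) := by
  obtain ⟨i, a, v, hv⟩ := exists_descend hc (inv ((Over.pullback (c.π.app j)).map s))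
  have hs : (Over.pullback (c.π.app i)).map ((Over.pullback (D.map a)).map s) =
      (compIso c a X).hom ≫ (Over.pullback (c.π.app j)).map s ≫ (compIso c a Y).inv := by
    rw [← Category.assoc, ← compIso_naturality, Category.assoc, Iso.hom_inv_id, Category.comp_id]
  obtain ⟨k₁, g₁, h₁⟩ := exists_eq_stage hc a ((Over.pullback (D.map a)).map s ≫ v) (𝟙 _) (by
    rw [Functor.map_comp, hs, hv, CategoryTheory.Functor.map_id]
    simp)
  obtain ⟨k₂, g₂, h₂⟩ := exists_eq_stage hc a (v ≫ (Over.pullback (D.map a)).map s) (𝟙 _) (by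
    rw [Functor.map_comp, hs, hv, CategoryTheory.Functor.map_id]
    simp)
  obtain ⟨k, b₁, b₂, e⟩ := IsCofiltered.cospan g₁ g₂
  have h₁' := eq_of_factor b₁ g₁ (b₁ ≫ g₁) rfl h₁
  have h₂' := eq_of_factor b₂ g₂ (b₁ ≫ g₁) e.symm h₂
  generalize b₁ ≫ g₁ = t at h₁' h₂'
  haveI : IsIso ((Over.pullback (D.map t)).map ((Over.pullback (D.map a)).map s)) :=
    ⟨(Over.pullback (D.map t)).map v, by rw [← Functor.map_comp, h₁', CategoryTheory.Functor.map_id],
      by rw [← Functor.map_comp, h₂', CategoryTheory.Functor.map_id]⟩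
  refine ⟨k, t ≫ a, ?_⟩
  rw [D.map_comp]
  exact isIso_comp' (b := D.map t) (g := D.map a) rfl

include hc in
/-- Flat surjective morphisms descend to a stage. -/
theorem exists_flat_surjective {k : I} (Zk : Over (D.obj k)) [LocallyOfFinitePresentation Zk.hom]
    [QuasiCompact Zk.hom] (hf : Flat (pullback.snd Zk.hom (c.π.app k)))
    (hs : Surjective (pullback.snd Zk.hom (c.π.app k))) :
    ∃ (l : I) (t : l ⟶ k), Flat (Red.bc (D.map t) Zk).hom ∧ Surjective (Red.bc (D.map t) Zk).hom := by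
  obtain ⟨φ, hφ⟩ := LimBC.exists_at_flat (LimBC.ofStage D c hc k) Zk.hom hf
  let g := pullback.snd Zk.hom (D.map φ.hom)
  haveI : Flat g := hφ
  haveI : LocallyOfFinitePresentation g := MorphismProperty.pullback_snd _ _ ‹_›
  haveI : UniversallyOpen g := inferInstance
  let U : (D.obj φ.left).Opens := ⟨Set.range g, g.isOpenMap.isOpen_range⟩
  obtain ⟨l, t, ht⟩ := exists_map_eq_top D c hc U (by
    refine top_le_iff.mp fun y _ => ?_
    obtain ⟨z, hz⟩ := hs.surj y
    let m : pullback Zk.hom (c.π.app k) ⟶ pullback Zk.hom (D.map φ.hom) :=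
      pullback.lift (pullback.fst _ _) (pullback.snd _ _ ≫ c.π.app φ.left)
        (by rw [Category.assoc, c.w]; exact pullback.condition)
    refine ⟨m z, ?_⟩
    show (m ≫ g) z = _
    rw [← hz, pullback.lift_snd]
    rfl)
  have hl : IsPullback (pullback.lift (pullback.fst Zk.hom (D.map (t ≫ φ.hom))) (pullback.snd _ _ ≫ D.map t)
      (by rw [Category.assoc, ← D.map_comp]; exact pullback.condition))
      (pullback.snd Zk.hom (D.map (t ≫ φ.hom))) g (D.map t) :=
    IsPullback.of_right (by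
      rw [pullback.lift_fst, ← D.map_comp]
      exact IsPullback.of_hasPullback _ _) (pullback.lift_snd _ _ _) (IsPullback.of_hasPullback _ _)
  refine ⟨l, t ≫ φ.hom, MorphismProperty.of_isPullback hl hφ, ⟨fun y => ?_⟩⟩
  have hy : D.map t y ∈ U := ht.ge (show y ∈ (⊤ : (D.obj l).Opens) from trivial)
  obtain ⟨z, hz⟩ := hy
  obtain ⟨w, -, hw⟩ := Scheme.Pullback.exists_preimage_pullback z y hz
  refine ⟨hl.isoPullback.inv w, ?_⟩
  show (hl.isoPullback.inv ≫ pullback.snd Zk.hom (D.map (t ≫ φ.hom))) w = y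
  rw [hl.isoPullback_inv_snd, hw]

include hc in
/-- An fppf covering over the limit exists at some stage. -/
theorem exists_hasCov {X : Over (D.obj j)} [LocallyOfFinitePresentation X.hom]
    (h : HasCov (Red.bc (c.π.app j) X)) : ∃ (i : I) (a : i ⟶ j), HasCov (Red.bc (D.map a) X) := by
  obtain ⟨Z, ⟨w⟩, h1, h2, h3, h4, h5⟩ := h
  haveI := h3; haveI := h4; haveI := h5
  obtain ⟨i₀, Z₀, f₀, q, hf1, hf2, hf3, hsq⟩ := Groth.Agent.S0591.result D c hc Z.left Z.hom
  obtain ⟨k, a, b, -⟩ := IsCofilteredOrEmpty.cone_objs j i₀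
  let Zk : Over (D.obj k) := Red.bc (D.map b) (Over.mk f₀)
  haveI : LocallyOfFinitePresentation Zk.hom := MorphismProperty.pullback_snd _ _ hf1
  haveI : QuasiCompact Zk.hom := MorphismProperty.pullback_snd _ _ hf2
  haveI : QuasiSeparated Zk.hom := MorphismProperty.pullback_snd _ _ hf3
  haveI : LocallyOfFinitePresentation (Red.bc (D.map a) X).hom := MorphismProperty.pullback_snd _ _ ‹_›
  let e : Red.bc (c.π.app k) Zk ≅ Z :=
    compIso c b (Over.mk f₀) ≪≫ (Over.isoMk hsq.isoPullback hsq.isoPullback_hom_snd).symm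
  obtain ⟨l, t, v, -⟩ := exists_descend hc (X := Zk) (Y := Red.bc (D.map a) X) (e.hom ≫ w ≫ (compIso c a X).inv)
  haveI : LocallyOfFinitePresentation (Red.bc (D.map t) Zk).hom := MorphismProperty.pullback_snd _ _ ‹_›
  haveI : QuasiCompact (Red.bc (D.map t) Zk).hom := MorphismProperty.pullback_snd _ _ ‹_›
  let e' : Red.bc (c.π.app l) (Red.bc (D.map t) Zk) ≅ Z := compIso c t Zk ≪≫ e
  obtain ⟨m, r, hm1, hm2⟩ := exists_flat_surjective hc (Red.bc (D.map t) Zk)
    (show Flat (Red.bc (c.π.app l) (Red.bc (D.map t) Zk)).hom by rw [← Over.w e'.hom]; infer_instance)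
    (show Surjective (Red.bc (c.π.app l) (Red.bc (D.map t) Zk)).hom by rw [← Over.w e'.hom]; infer_instance)
  refine ⟨m, r ≫ t ≫ a, Red.bc (D.map r) (Red.bc (D.map t) Zk),
    ⟨(Over.pullback (D.map r)).map v ≫ (Over.pullback (D.map r)).map
      (compIso₂ (D.map_comp t a).symm X).hom ≫ (compIso₂ (D.map_comp r (t ≫ a)).symm X).hom⟩,
    hm1, hm2, MorphismProperty.pullback_snd _ _ inferInstance, MorphismProperty.pullback_snd _ _ inferInstance,
    MorphismProperty.pullback_snd _ _ (MorphismProperty.pullback_snd _ _ ‹_›)⟩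

/-- The base change of an action-graph map. -/
theorem map_graph {S S' : Scheme.{u}} (g : S' ⟶ S) (G X : Over S) (act : G ⊗ X ⟶ X) :
    lift (Functor.LaxMonoidal.μ (Over.pullback g) G X ≫ (Over.pullback g).map act)
      (snd (Red.bc g G) (Red.bc g X)) =
    Functor.LaxMonoidal.μ (Over.pullback g) G X ≫ (Over.pullback g).map (lift act (snd G X)) ≫
      Functor.OplaxMonoidal.δ (Over.pullback g) X X := by
  refine CartesianMonoidalCategory.hom_ext _ _ ?_ ?_
  · simp only [lift_fst, Category.assoc, Functor.OplaxMonoidal.δ_fst, ← Functor.map_comp]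
  · simp only [lift_snd, Category.assoc, Functor.OplaxMonoidal.δ_snd, ← Functor.map_comp]
    exact (Functor.Monoidal.μ_snd (Over.pullback g) G X).symm

theorem isIso_graph_iff {S S' : Scheme.{u}} (g : S' ⟶ S) (G X : Over S) (act : G ⊗ X ⟶ X) :
    IsIso (lift (Functor.LaxMonoidal.μ (Over.pullback g) G X ≫ (Over.pullback g).map act)
      (snd (Red.bc g G) (Red.bc g X))) ↔ IsIso ((Over.pullback g).map (lift act (snd G X))) := by
  rw [map_graph, isIso_comp_left_iff, isIso_comp_right_iff]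

end TorsorLimLib
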